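import Cfsg.Agent.H587.NR.He
import Cfsg.Agent.H51.Rad3.Inner
import Cfsg.Agent.S2075

/-!
# Elements of order three of the Held group (helper51, for S3854)
-/

set_option autoImplicit false
set_option maxRecDepth 100000

namespace Cfsg.Agent.H51.Rad3.He

open Subgroup Cfsg
open Cfsg.Spor.He (Gen)
open Cfsg.Agent.SporadicB.HePerm (act wd phi phi_wd_apply)
open Cfsg.Agent.FixBN.HeStab Cfsg.Agent.KFacts.He.Lv Cfsg.Agent.CpAutHe.Cnt
open Cfsg.Agent.H587.NR.He (ne_of_chkB)
open Cfsg.Agent.H51.Rad3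

/-- the certificate -/
def chkBad (X t : List Gen) (n : ℕ) : Bool :=
  and (and (chkB (pw X 3) []) (chkB (t ++ t) []))
    (and (chkB (pw (X ++ t) n) []) (and (Nat.beq (Nat.gcd n 6) 1) (not (chkB (X ++ t) []))))

theorem bad_of_chk {X t : List Gen} {n : ℕ} (h : chkBad X t n = true) : Bad3 (wd X) := by
  unfold chkBad at h
  simp only [Bool.and_eq_true] at h
  obtain ⟨⟨h1, h2⟩, h3, h4, h5⟩ := h
  have e1 := eq_of_chkB h1
  have e2 := eq_of_chkB h2
  have e3 := eq_of_chkB h3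
  have e5 : wd (X ++ t) ≠ 1 := by
    rw [← wd_nil]
    refine ne_of_chkB ?_
    simpa using h5
  rw [wd_pw, wd_nil] at e1 e3
  rw [wd_append, wd_nil] at e2
  rw [wd_append] at e3 e5
  exact Bad3.of_coprime e1 e2 (Nat.eq_of_beq_eq_true h4) e3 e5

/-- the generators of a Sylow subgroup -/
def A : List Gen := [.c, .d, .g, .e, .b, .a, .b, .e, .b, .e, .d, .f, .e, .c, .g, .e, .d, .e, .d, .b, .b, .c, .d, .c, .g, .c, .g, .b, .f, .b, .c, .d, .f, .c, .e, .c, .g, .d, .b, .c]
def B : List Gen := [.c, .d, .a, .e, .a, .b, .e, .c, .a, .d, .b, .c, .d, .e, .b, .c, .d, .e, .a, .b, .c, .d, .f, .g, .d, .e, .a, .e, .d, .a, .c, .b, .f, .e, .c, .e, .g, .a, .d, .c, .c, .d, .a, .e, .a, .b, .e, .c, .a, .d, .b, .c, .d, .e, .b, .c, .d, .e, .a, .b, .c, .d, .f, .g, .d, .e, .a, .e, .d, .a, .c, .b, .f, .e, .c, .e, .g, .a, .d, .c]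
def C : List Gen := [.d, .e]

theorem bad_c : Bad3 (wd C) := bad_of_chk (t := [.c]) (n := 5) (by decide +kernel)

theorem bad_b : Bad3 (wd B) := bad_of_chk (t := [.f]) (n := 5) (by decide +kernel)

theorem bad_a0 : Bad3 (wd (A ++ pw B 0)) := bad_of_chk (t := [.c]) (n := 5) (by decide +kernel)

theorem bad_a1 : Bad3 (wd (A ++ pw B 1)) :=
  bad_of_chk (t := [.c, .d, .c, .d, .g, .d, .c, .d, .c]) (n := 17) (by decide +kernel)

theorem bad_a2 : Bad3 (wd (A ++ pw B 2)) :=
  bad_of_chk (t := [.c, .g, .d, .c, .d, .g, .c]) (n := 17) (by decide +kernel)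

theorem bad_he (x : Cfsg.Spor.He) (hx : orderOf x = 3) (hf : Finite Cfsg.Spor.He) : Bad3 x := by
  have r1 : wd A * wd C = wd C * wd A := by
    have h1 := eq_of_chkB (show chkB (A ++ C) (C ++ A) = true by decide +kernel)
    rwa [wd_append, wd_append] at h1
  have r2 : wd B * wd C = wd C * wd B := by
    have h1 := eq_of_chkB (show chkB (B ++ C) (C ++ B) = true by decide +kernel)
    rwa [wd_append, wd_append] at h1
  have r3 : wd A * wd B = wd C * (wd B * wd A) := by
    have h1 := eq_of_chkB (show chkB (A ++ B) (C ++ (B ++ A)) = true by decide +kernel)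
    rwa [wd_append, wd_append, wd_append] at h1
  have r4 : wd A ^ 3 = 1 := by
    have h1 := eq_of_chkB (show chkB (pw A 3) [] = true by decide +kernel)
    rwa [wd_pw, wd_nil] at h1
  have r5 : wd B ^ 3 = 1 := by
    have h1 := eq_of_chkB (show chkB (pw B 3) [] = true by decide +kernel)
    rwa [wd_pw, wd_nil] at h1
  have r6 : wd C ^ 3 = 1 := by
    have h1 := eq_of_chkB (show chkB (pw C 3) [] = true by decide +kernel)
    rwa [wd_pw, wd_nil] at h1
  have r7 : wd C ≠ 1 := by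
    rw [← wd_nil]
    exact ne_of_chkB (by decide +kernel)
  refine bad3_of_cube (by rw [card_he]; norm_num) r1 r2 r3 r4 r5 r6 r7 bad_c bad_b ?_ x hx
  intro j hj
  rw [← wd_pw, ← wd_append]
  interval_cases j
  · exact bad_a0
  · exact bad_a1
  · exact bad_a2

/-- **`He`** -/
theorem irow_he {K : Type*} [Group K] [Finite K] [IsSimpleGroup K] (h : Cfsg.Spor.IsoHe K) :
    Cfsg.Agent.H959.Rad3.IRow K := by
  obtain ⟨e⟩ := h
  have : Finite Cfsg.Spor.He := Finite.of_equiv K e.toEquiv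
  exact irow_of_card e (by rw [Cfsg.Agent.S2075.result]) fun x hx => bad_he x hx this

end Cfsg.Agent.H51.Rad3.He
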