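import Cfsg.Agent.H49.JFourThree
import Cfsg.Agent.H51.Rad3.Inner
import Cfsg.Agent.S2068

/-!
# Elements of order three of the fourth Janko group (helper51, for S3854)

`M24` is a subgroup of index prime to three.
-/

set_option autoImplicit false

namespace Cfsg.Agent.H51.Rad3.J4

open Subgroup Cfsg Cfsg.Agent.H839.Rad Cfsg.Agent.H49.JFourThree Cfsg.Agent.J4.Pres

theorem radFree_range : RadFree 3 ↥(phi.range) := by
  have hs : IsSimpleGroup M24 := Cfsg.Agent.S0365.result
  have hf : Finite M24 := Nat.finite_of_card_ne_zero (by rw [Cfsg.Agent.S2038.card_M24]; norm_num)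
  refine RadFree.congr Nat.prime_three (MonoidHom.ofInjective phi_injective).symm
    (RadFree.of_simple (by norm_num) fun h => ?_)
  have hm : commutator ↥M24 = ⊤ := Cfsg.Agent.H48.Crit.perfect_of_simple (by rw [Cfsg.Agent.S2038.card_M24]; norm_num)
  have hp : Group.IsPerfect ↥M24 := ⟨hm⟩
  exact Group.IsPerfect.not_isSolvable _ h

theorem irow_j4 {K : Type*} [Group K] [Finite K] [IsSimpleGroup K] (h : Cfsg.Spor.IsoJ4 K) :
    Cfsg.Agent.H959.Rad3.IRow K := by
  obtain ⟨e⟩ := h
  have hfin : Finite Cfsg.Spor.J4 := Finite.of_equiv K e.toEquiv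
  refine irow_of_inn e (by rw [Cfsg.Agent.S2068.result]; norm_num) fun _ a ha hR _ => ?_
  have hc := phi.range.card_mul_index
  rw [Cfsg.Agent.H49.JFourThree.card_range, Cfsg.Agent.J4.Final.card_J4] at hc
  refine false_of_sylow Nat.prime_three ha hR (M := phi.range) ?_ ?_ radFree_range
  · intro h
    rw [h, index_top] at hc
    norm_num at hc
  · rintro ⟨k, hk⟩
    rw [hk] at hc
    omega

end Cfsg.Agent.H51.Rad3.J4
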