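import Cfsg.Agent.R04.ONThree
import Cfsg.Agent.KFacts.ON.OneClass
import Cfsg.Agent.H51.Rad3.Inner
import Cfsg.Agent.S2078

/-!
# Elements of order three of the O'Nan group (helper51, for S3854)
-/

set_option autoImplicit false
set_option maxRecDepth 10000

namespace Cfsg.Agent.H51.Rad3.ON

open Cfsg.Spor Cfsg.Spor.ON Cfsg.Agent.Lib.PackMat Cfsg.Agent.SporadicB.ON45Data Cfsg.Agent.SporadicB.ON45Rels
  Cfsg.Agent.SporadicB.ON45Word Cfsg.Agent.R04.ONThreeData Cfsg.Agent.R04.ThreeAbs Cfsg.Agent.R04.ONThree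
open Cfsg.Agent.ONType.SecondTuple (eq_of_check)
open Cfsg.Agent.KFacts.ON.OneClass (hs)
open Cfsg.Agent.H51.Rad3
open scoped Pointwise

section Abs

variable {G : Type*} [Group G] {B : G → Prop} (hB : ∀ y r : G, B y → B (r * y * r⁻¹))

include hB

/-- one step of the rotation by `p` -/
theorem stepB {p x₁ x₂ v : G} (h12 : Commute x₁ x₂) (h1 : p * x₁ * p⁻¹ = x₂)
    (h2 : p * x₂ * p⁻¹ = x₁ ^ 2) (hv : Commute p v) {i j : ℕ} (h : B (x₁ ^ i * x₂ ^ j * v)) :
    B (x₁ ^ (2 * j) * x₂ ^ i * v) := by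
  have := hB _ p h
  have e : p * (x₁ ^ i * x₂ ^ j * v) * p⁻¹ = x₁ ^ (2 * j) * x₂ ^ i * v := by
    calc p * (x₁ ^ i * x₂ ^ j * v) * p⁻¹
        = (p * x₁ ^ i * p⁻¹) * (p * x₂ ^ j * p⁻¹) * (p * v * p⁻¹) := by group
      _ = (p * x₁ * p⁻¹) ^ i * (p * x₂ * p⁻¹) ^ j * v := by
          rw [conj_pow, conj_pow, hv.eq, mul_inv_cancel_right]
      _ = x₂ ^ i * x₁ ^ (2 * j) * v := by rw [h1, h2, pow_mul]
      _ = x₁ ^ (2 * j) * x₂ ^ i * v := by
          rw [((h12.symm.pow_pow i (2 * j))).eq]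
  rwa [e] at this

/-- All non-zero exponents. -/
theorem all_ofB {p x₁ x₂ v : G} (h12 : Commute x₁ x₂) (h1 : p * x₁ * p⁻¹ = x₂)
    (h2 : p * x₂ * p⁻¹ = x₁ ^ 2) (hx : x₁ ^ 3 = 1) (hv : Commute p v)
    (ha : B (x₁ * v)) (hb : B (x₁ * x₂ * v)) (i j : ℕ) (hi : i < 3) (hj : j < 3)
    (hij : i ≠ 0 ∨ j ≠ 0) : B (x₁ ^ i * x₂ ^ j * v) := by
  have hx2 : x₂ ^ 3 = 1 := by
    rw [← h1, conj_pow, hx, mul_one, mul_inv_cancel]
  have q10 : B (x₁ ^ 1 * x₂ ^ 0 * v) := by simpa using ha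
  have q01 : B (x₁ ^ 0 * x₂ ^ 1 * v) := stepB hB h12 h1 h2 hv q10
  have q20 : B (x₁ ^ 2 * x₂ ^ 0 * v) := stepB hB h12 h1 h2 hv q01
  have q02 : B (x₁ ^ 0 * x₂ ^ 2 * v) := stepB hB h12 h1 h2 hv q20
  have q11 : B (x₁ ^ 1 * x₂ ^ 1 * v) := by simpa using hb
  have q21 : B (x₁ ^ 2 * x₂ ^ 1 * v) := stepB hB h12 h1 h2 hv q11
  have q22 : B (x₁ ^ 2 * x₂ ^ 2 * v) := stepB hB h12 h1 h2 hv q21
  have q12 : B (x₁ ^ 1 * x₂ ^ 2 * v) := by
    have := stepB hB h12 h1 h2 hv q22
    rwa [pow_mod3 hx (2 * 2)] at this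
  interval_cases i <;> interval_cases j
  · rcases hij with h | h <;> exact absurd rfl h
  all_goals assumption

variable {a b e f p q : G} (D : Data a b e f p q)

include D

theorem B_el (b1 : B (a * b)) (b12 : B ((a * b) * (p * (a * b) * p⁻¹)))
    (b3 : B (f * e)) (b34 : B ((f * e) * (q * (f * e) * q⁻¹)))
    (b13 : B ((a * b) * (f * e))) (b123 : B ((a * b) * (p * (a * b) * p⁻¹) * (f * e)))
    (b134 : B ((a * b) * ((f * e) * (q * (f * e) * q⁻¹))))
    (b1234 : B ((a * b) * (p * (a * b) * p⁻¹) * ((f * e) * (q * (f * e) * q⁻¹)))) (i j k l : ℕ)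
    (hi : i < 3) (hj : j < 3) (hk : k < 3) (hl : l < 3)
    (h : i ≠ 0 ∨ j ≠ 0 ∨ k ≠ 0 ∨ l ≠ 0) : B (el a b e f p q i j k l) := by
  have c12 : Commute (a * b) (p * (a * b) * p⁻¹) := D.c12
  have c34 : Commute (f * e) (q * (f * e) * q⁻¹) := D.c34
  unfold el
  by_cases hij : i ≠ 0 ∨ j ≠ 0
  · by_cases hkl : k ≠ 0 ∨ l ≠ 0
    · have key : ∀ u : G, Commute q u → B (u * (f * e)) → B (u * ((f * e) * (q * (f * e) * q⁻¹))) →
          B (u * ((f * e) ^ k * (q * (f * e) * q⁻¹) ^ l)) := by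
        intro u hu h1 h2
        have hinv : ∀ y : G, B (y * u) ↔ B (u * y) := by
          intro y
          constructor
          · intro h
            have := hB _ u h
            have e1 : u * (y * u) * u⁻¹ = u * y := by group
            rwa [e1] at this
          · intro h
            have := hB _ u⁻¹ h
            have e1 : u⁻¹ * (u * y) * u⁻¹⁻¹ = y * u := by group
            rwa [e1] at this
        rw [← hinv]
        exact all_ofB hB c34 rfl D.qx4 D.fe3 hu ((hinv _).2 h1) ((hinv _).2 h2) k l hk hl hkl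
      have p34 : ∀ m n : ℕ, Commute p ((f * e) ^ m * (q * (f * e) * q⁻¹) ^ n) := fun m n =>
        (D.comm_p_3.pow_right m).mul_right (D.comm_p_4.pow_right n)
      refine all_ofB hB c12 rfl D.px2 D.ab3 (p34 k l) ?_ ?_ i j hi hj hij
      · exact key _ D.comm_q_1 b13 b134
      · exact key _ (D.comm_q_1.mul_right D.comm_q_2) b123 b1234
    · push Not at hkl
      obtain ⟨rfl, rfl⟩ := hkl
      refine all_ofB hB c12 rfl D.px2 D.ab3 (by simp) ?_ ?_ i j hi hj hij
      · simpa using b1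
      · simpa using b12
  · push Not at hij
    obtain ⟨rfl, rfl⟩ := hij
    have hkl : k ≠ 0 ∨ l ≠ 0 := by
      rcases h with h | h | h
      · exact absurd rfl h
      · exact absurd rfl h
      · exact h
    have := all_ofB hB (v := (1 : G)) c34 rfl D.qx4 D.fe3 (Commute.one_right q)
      (by simpa using b3) (by simpa using b34) k l hk hl hkl
    simpa using this

/-- all elements of order three -/
theorem B_all [Finite G] (hE : Nat.card D.E = 81) (h81 : ¬ 243 ∣ Nat.card G)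
    (hall : ∀ i j k l : ℕ, i < 3 → j < 3 → k < 3 → l < 3 → (i ≠ 0 ∨ j ≠ 0 ∨ k ≠ 0 ∨ l ≠ 0) →
      B (el a b e f p q i j k l)) (x : G) (hx : orderOf x = 3) : B x := by
  have : Fact (Nat.Prime 3) := ⟨Nat.prime_three⟩
  have hfac : (Nat.card G).factorization 3 = 4 := by
    have h1 : 3 ^ 4 ∣ Nat.card G := by
      rw [show 3 ^ 4 = Nat.card D.E by rw [hE]; norm_num]
      exact Subgroup.card_subgroup_dvd_card _
    have h0 : Nat.card G ≠ 0 := Nat.card_pos.ne'
    have h2 := (Nat.Prime.pow_dvd_iff_le_factorization Nat.prime_three h0).1 h1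
    have h3 : ¬ 5 ≤ (Nat.card G).factorization 3 := by
      intro h
      apply h81
      have := (Nat.Prime.pow_dvd_iff_le_factorization Nat.prime_three h0).2 h
      norm_num at this
      exact this
    omega
  let P : Sylow 3 G := Sylow.ofCard D.E (by rw [hfac, hE]; norm_num)
  have hpx : IsPGroup 3 (Subgroup.zpowers x) :=
    IsPGroup.of_card (n := 1) (by rw [Nat.card_zpowers, hx, pow_one])
  obtain ⟨R, hR⟩ := hpx.exists_le_sylow
  obtain ⟨g, hg⟩ := MulAction.exists_smul_eq G P R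
  have hxR : x ∈ (R : Subgroup G) := hR (Subgroup.mem_zpowers x)
  rw [← hg] at hxR
  have hxP : g⁻¹ * x * g ∈ D.E := by
    have h1 : x ∈ MulAut.conj g • (P : Subgroup G) := hxR
    rw [Subgroup.mem_pointwise_smul_iff_inv_smul_mem] at h1
    have h2 : (MulAut.conj g)⁻¹ • x = g⁻¹ * x * g := by
      rw [← map_inv]
      simp [MulAut.smul_def, MulAut.conj_apply]
    rwa [h2] at h1
  obtain ⟨i, j, k, l, hel⟩ := hxP
  rw [D.el_mod] at hel
  have hx1 : x ≠ 1 := by
    intro h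
    rw [h, orderOf_one] at hx
    norm_num at hx
  have hne : i % 3 ≠ 0 ∨ j % 3 ≠ 0 ∨ k % 3 ≠ 0 ∨ l % 3 ≠ 0 := by
    by_contra hcon
    push Not at hcon
    obtain ⟨e1, e2, e3, e4⟩ := hcon
    rw [e1, e2, e3, e4] at hel
    have h1 : g⁻¹ * x * g = 1 := by rw [hel]; simp [el]
    apply hx1
    have : x = g * (g⁻¹ * x * g) * g⁻¹ := by group
    rw [this, h1]; group
  have hQ := hall _ _ _ _ (Nat.mod_lt i (by norm_num)) (Nat.mod_lt j (by norm_num))
    (Nat.mod_lt k (by norm_num)) (Nat.mod_lt l (by norm_num)) hne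
  rw [← hel] at hQ
  have h3 := hB _ g hQ
  have h4 : g * (g⁻¹ * x * g) * g⁻¹ = x := by group
  rwa [h4] at h3

end Abs

/-! ### the certificates -/

theorem bad_of {x r s : ON} {X R R' : List ℕ} {S : ℕ} (hx : LW x X) (hr : LW r R) (hr' : LW r⁻¹ R') (hS : LW s [S])
    (hs2 : s * s = 1) (hs1 : s ≠ 1) (n c c' : ℕ)
    (hc : c < 7) (h1 : checkScalar C45 ((List.replicate 3 X).flatten) c 0 45 = true)
    (hc' : c' < 7) (h2 : checkScalar C45 ((List.replicate n (X ++ (R ++ [S] ++ R'))).flatten) c' 0 45 = true)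
    (hn : Nat.Coprime n 6) : Bad3 x := by
  have r1 : x ^ 3 = 1 := (hx.pow 3).eq_one hs c hc h1
  have r2 : (x * (r * s * r⁻¹)) ^ n = 1 := ((hx.mul ((hr.mul hS).mul hr')).pow n).eq_one hs c' hc' h2
  have r3 : r * s * r⁻¹ * (r * s * r⁻¹) = 1 := by
    have : r * s * r⁻¹ * (r * s * r⁻¹) = r * (s * s) * r⁻¹ := by group
    rw [this, hs2]
    group
  refine Bad3.of_coprime r1 r3 hn r2 fun h => ?_
  have e1 : x = r * s * r⁻¹ := by
    rw [eq_inv_of_mul_eq_one_left h]
    exact (eq_inv_of_mul_eq_one_left r3).symm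
  have e2 : x ^ 2 = 1 := by rw [pow_two, e1, r3]
  have e3 : x = 1 := by
    have : x ^ 3 = x ^ 2 * x := pow_succ x 2
    rw [r1, e2, one_mul] at this
    exact this.symm
  apply hs1
  rw [e1] at e3
  have e4 : s = r⁻¹ * (r * s * r⁻¹) * r := by group
  rw [e4, e3]
  group

theorem lc : LW (on .c) [gens 2] := LW.gen .c
theorem ld : LW (on .d) [gens 3] := LW.gen .d
theorem lg : LW (on .g) [gens 6] := LW.gen .g

theorem cc : on .c * on .c = 1 := (lc.mul lc).eq_one hs 1 (by decide) (by decide +kernel)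
theorem dd : on .d * on .d = 1 := (ld.mul ld).eq_one hs 1 (by decide) (by decide +kernel)
theorem c_ne : on .c ≠ 1 := by
  have h : LW (on .c) [gc] := lc
  exact h.ne_one 0 1 (by decide) (by decide +kernel)
theorem d_ne : on .d ≠ 1 := by
  have h : LW (on .d) [gd] := ld
  exact h.ne_one 0 3 (by decide) (by decide +kernel)

theorem lone : LW (1 : ON)⁻¹ [] := by rw [inv_one]; exact LW.one
theorem lci : LW (on .c)⁻¹ [gens 2] := lc.inv (by decide +kernel) (by decide +kernel)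
theorem ldi : LW (on .d)⁻¹ [gens 3] := ld.inv (by decide +kernel) (by decide +kernel)
theorem lgi : LW (on .g)⁻¹ [gens 6, gens 6, gens 6] := lg.inv (by decide +kernel) (by decide +kernel)
theorem lcgi : LW (on .c * on .g)⁻¹ [gens 6, gens 6, gens 6, gens 2] :=
  (lc.mul lg).inv (by decide +kernel) (by decide +kernel)
theorem lcbdi : LW (on .c * on .b * on .d)⁻¹ [gens 3, gens 1, gens 2] :=
  ((lc.mul lb).mul ld).inv (by decide +kernel) (by decide +kernel)

theorem bad_1 : Bad3 (on .a * on .b) :=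
  bad_of l1 lg lgi lc cc c_ne 5 1 1 (by decide) (by decide +kernel) (by decide) (by decide +kernel) (by norm_num)

theorem bad_12 : Bad3 ((on .a * on .b) * (p * (on .a * on .b) * p⁻¹)) :=
  bad_of (l1.mul l2) LW.one lone lc cc c_ne 5 1 4 (by decide) (by decide +kernel) (by decide) (by decide +kernel)
    (by norm_num)

theorem bad_3 : Bad3 (on .f * on .e) :=
  bad_of l3 lg lgi ld dd d_ne 5 1 1 (by decide) (by decide +kernel) (by decide) (by decide +kernel) (by norm_num)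

theorem bad_34 : Bad3 ((on .f * on .e) * (q * (on .f * on .e) * q⁻¹)) :=
  bad_of (l3.mul l4) LW.one lone ld dd d_ne 5 1 4 (by decide) (by decide +kernel) (by decide) (by decide +kernel)
    (by norm_num)

theorem bad_13 : Bad3 ((on .a * on .b) * (on .f * on .e)) :=
  bad_of (l1.mul l3) (lc.mul lg) lcgi ld dd d_ne 19 1 1 (by decide) (by decide +kernel) (by decide)
    (by decide +kernel) (by norm_num)

theorem bad_123 : Bad3 ((on .a * on .b) * (p * (on .a * on .b) * p⁻¹) * (on .f * on .e)) :=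
  bad_of ((l1.mul l2).mul l3) ld ldi lc cc c_ne 19 1 2 (by decide) (by decide +kernel) (by decide)
    (by decide +kernel) (by norm_num)

theorem bad_134 : Bad3 ((on .a * on .b) * ((on .f * on .e) * (q * (on .f * on .e) * q⁻¹))) :=
  bad_of (l1.mul (l3.mul l4)) lc lci ld dd d_ne 19 1 2 (by decide) (by decide +kernel) (by decide)
    (by decide +kernel) (by norm_num)

theorem bad_1234 : Bad3 ((on .a * on .b) * (p * (on .a * on .b) * p⁻¹) *
    ((on .f * on .e) * (q * (on .f * on .e) * q⁻¹))) :=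
  bad_of ((l1.mul l2).mul (l3.mul l4)) ((lc.mul lb).mul ld) lcbdi lc cc c_ne 31 1 4 (by decide) (by decide +kernel)
    (by decide) (by decide +kernel) (by norm_num)

theorem bad_all (x : ON) (hx : orderOf x = 3) : Bad3 x := by
  have hfin : Finite ON := Cfsg.Agent.KFacts.ON.OneClass.finite_ON
  have hB : ∀ y r : ON, Bad3 y → Bad3 (r * y * r⁻¹) := by
    intro y r h
    refine Bad3.of_conj r⁻¹ ?_
    have e : r⁻¹ * (r * y * r⁻¹) * r⁻¹⁻¹ = y := by group
    rwa [e]
  have hE := (data hs).card_E ab_ne fe_ne a_ne f_ne (Cfsg.Agent.R04.ONThree.inv hs)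
  exact B_all hB (data hs) hE (by rw [Cfsg.Agent.KFacts.ON.OneClass.card_ON]; norm_num)
    (fun i j k l hi hj hk hl h => B_el hB (data hs) bad_1 bad_12 bad_3 bad_34 bad_13 bad_123 bad_134 bad_1234
      i j k l hi hj hk hl h) x hx

/-- **`ON`** -/
theorem irow_on {K : Type*} [Group K] [Finite K] [IsSimpleGroup K] (h : Cfsg.Spor.IsoON K) :
    Cfsg.Agent.H959.Rad3.IRow K := by
  obtain ⟨e⟩ := h
  have : Finite Cfsg.Spor.ON := Finite.of_equiv K e.toEquiv
  exact irow_of_card e (by rw [Cfsg.Agent.S2078.result]) bad_all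

end Cfsg.Agent.H51.Rad3.ON
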